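import Groth.Agent.HodgeLef45.Seq
import Groth.Agent.AmpleVan.Tw
import Groth.Agent.DevK.TensorInv
import Groth.Agent.Growth22.Ineq
import Groth.Agent.QCoh.DevissageP
import Groth.Agent.QCoh.OpenSub

/-!
# Hodge numbers of a smooth divisor with negative twisted vanishing
-/

set_option autoImplicit false
set_option linter.style.haveILetI false
set_option linter.unusedSectionVars false
set_option backward.isDefEq.respectTransparency false
set_option backward.isDefEq.respectTransparency.types false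

universe u

open CategoryTheory CategoryTheory.Limits AlgebraicGeometry Opposite TopologicalSpace
open Groth.Agent.DRHyp Groth.Agent.DRHyp.Hyp
open scoped Groth.Agent.H23.PicMul

noncomputable section

namespace Groth.Agent.HodgeLef45

attribute [local irreducible] ExtSheaf.mod

/-- The sheaves of forms are coherent. -/
theorem isCoh_OmX {k : Type u} [Field k] {X : Scheme.{u}} (f : X ⟶ Spec (CommRingCat.of k)) [QuasiSeparated f]
    [LocallyOfFiniteType f] (j : ℕ) : Coh.IsCoh (OmX f j) := by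
  refine ⟨isQCoh_OmX f j, ?_⟩
  refine QCoh.isFT_of_finite (isQCoh_OmX f j) (fun U : X.affineOpens => U.1)
    (iSup_affineOpens_eq_top X) (fun U => U.2) fun U => ?_
  let _ := DRHyp.kAlg f U.1
  have h1 : RingHom.FiniteType (DRHyp.constHom f U.1) :=
    (f.finiteType_appLE (isAffineOpen_top _) U.2 le_top).comp
      (RingHom.FiniteType.of_surjective _
        (Scheme.ΓSpecIso (CommRingCat.of k)).symm.commRingCatIsoToRingEquiv.surjective)
  haveI : Algebra.FiniteType k Γ(X, U.1) := h1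
  haveI : Module.Finite Γ(X, U.1) Γ(Omega.sheaf f, U.1) := Module.Finite.equiv (DRHyp.omegaEquiv f U.2)
  exact Module.Finite.equiv (ev (isQCoh_omega f) j U.2).symm

variable {X : Scheme.{u}}

theorem isoOfCl {A B : X.Modules} (h : PicF.cl A = PicF.cl B) : Nonempty (A ≅ B) :=
  H23.PicMul.cl_eq_iff.1 h

/-- Twisting keeps short exact sequences. -/
theorem shortExact_tw {P : X.Modules} (hP : PicF.IsInvertible P) {S : ShortComplex X.Modules} (hS : S.ShortExact) :
    (S.map (AmpleVan.tw P)).ShortExact := by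
  haveI := AmpleVan.isEquivalence_tw hP
  haveI : (AmpleVan.tw P).Additive := Functor.additive_of_preserves_binary_products _
  exact hS.map_of_exact _

variable (k : Type u) [Field k] [X.Over (Spec (CommRingCat.of k))] [IsProper (X ↘ Spec (CommRingCat.of k))]
  [Smooth (X ↘ Spec (CommRingCat.of k))]

set_option maxHeartbeats 1600000 in
/-- The comparison of cohomology of forms on a smooth divisor and on the ambient scheme. -/
theorem comparison {M D : X.Modules} (hM : PicF.IsInvertible M) (hD : PicF.IsInvertible D)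
    (hDM : PicF.cl D * PicF.cl M = 1) (s : Coh.structureModule X ⟶ M) [Mono s]
    (I : X.IdealSheafData) [Smooth (I.subschemeι ≫ (X ↘ Spec (CommRingCat.of k)))]
    (hI : ∀ {V : X.Opens} (hV : IsAffineOpen V) {e : Γ(M, V)} (he : InvX.IsFrame e),
      I.ideal ⟨V, hV⟩ = Ideal.span {coef s he})
    (n : ℕ) (hv : ∀ j q, j + q ≤ n → ∀ t, 1 ≤ t →
      Subsingleton (Coh.HH X (CohB1.tensorMod (OmX (X ↘ Spec (CommRingCat.of k)) j) (CohB1.tensorPow D t)) q))
    (p q : ℕ) (E : X.Modules) (hE : ExtPow.IsExtPow p (Omega.sheaf (X ↘ Spec (CommRingCat.of k))) E)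
    (F : I.subscheme.Modules)
    (hF : ExtPow.IsExtPow p (Omega.sheaf (I.subschemeι ≫ (X ↘ Spec (CommRingCat.of k)))) F) :
    (p + q + 1 ≤ n → Growth22.h k E q = Growth22.h k ((Coh.push I.subschemeι).obj F) q) ∧
      (p + q ≤ n → Growth22.h k E q ≤ Growth22.h k ((Coh.push I.subschemeι).obj F) q) := by
  haveI := CurveCohLib.isNoetherian_of_proper (k := k) (X := X)
  let f := X ↘ Spec (CommRingCat.of k)
  haveI : QuasiSeparated (I.subschemeι ≫ f) := inferInstance
  let T : ℕ → X.Modules := CohB1.tensorPow D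
  have hT : ∀ t, PicF.IsInvertible (T t) := fun t => H23.PicMul.isInvertible_tensorPow hD t
  have hcl2 : ∀ t, PicF.cl M * PicF.cl (T (t + 2)) = PicF.cl (T (t + 1)) := fun t => by
    rw [H23.PicMul.cl_tensorPow, H23.PicMul.cl_tensorPow, pow_succ _ (t + 1), mul_left_comm, mul_comm (PicF.cl M), hDM,
      mul_one]
  have hcl1 : ∀ t, PicF.cl M * PicF.cl M * PicF.cl (T (t + 2)) = PicF.cl (T t) := fun t => by
    rw [mul_assoc, hcl2, H23.PicMul.cl_tensorPow, H23.PicMul.cl_tensorPow, pow_succ, mul_left_comm,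
      mul_comm (PicF.cl M), hDM, mul_one]
  have e1 : ∀ (G : X.Modules) t,
      Nonempty (CohB1.tensorMod (CohB1.tensorMod G M) (T (t + 2)) ≅ CohB1.tensorMod G (T (t + 1))) :=
    fun G t => isoOfCl (by
      rw [H23.PicMul.cl_tensor, H23.PicMul.cl_tensor, H23.PicMul.cl_tensor, mul_assoc, hcl2])
  have e2 : ∀ (G : X.Modules) t,
      Nonempty (CohB1.tensorMod (CohB1.tensorMod G (PT M 1)) (T (t + 2)) ≅ CohB1.tensorMod G (T t)) :=
    fun G t => isoOfCl (by
      rw [H23.PicMul.cl_tensor, H23.PicMul.cl_tensor, H23.PicMul.cl_tensor, show PT M 1 = CohB1.tensorMod M M from rfl,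
        H23.PicMul.cl_tensor, mul_assoc, hcl1])
  have e0 : ∀ G : X.Modules, Nonempty (CohB1.tensorMod G (T 0) ≅ G) := fun G => H23.PicMul.unit G
  let OmY : ℕ → I.subscheme.Modules := OmX (I.subschemeι ≫ f)
  have hOm : ∀ j, ExtPow.IsExtPow j (Omega.sheaf (I.subschemeι ≫ f)) (OmY j) :=
    fun j => ExtSheaf.isExtPow_mod (isQCoh_omega (I.subschemeι ≫ f)) j
  let P : ℕ → X.Modules := fun j => (Coh.push I.subschemeι).obj (OmY j)
  have hPc : ∀ j, Coh.IsCoh (P j) := fun j => QCoh.isCoh_push I.subschemeι (isCoh_OmX _ j)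
  let C : ℕ → ℕ → X.Modules := fun j t => CohB1.tensorMod (CC f s j 0) (T (t + 2))
  have hCc : ∀ j t, Coh.IsCoh (C j t) := fun j t => DevK.isCoh_tensor_inv (hT _)
    (QCoh.isCoh_cokernel (isQCoh_N f hM j 0)
      (DevK.isCoh_tensor_inv (F := OmX f j) (H23.PicMul.isInvertible_tensor hM hM) (isCoh_OmX f j)) _)
  -- the two twisted sequences
  have seqA : ∀ j t, ∃ S : ShortComplex X.Modules, S.ShortExact ∧
      Nonempty (S.X₁ ≅ CohB1.tensorMod (OmX f j) (T (t + 1))) ∧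
      Nonempty (S.X₂ ≅ CohB1.tensorMod (OmX f j) (T t)) ∧ S.X₃ = C j t := fun j t => by
    haveI := mono_upN hM s (f := f) j 0
    exact ⟨_, shortExact_tw (hT (t + 2)) (shortExact_cokernel (upN f s j 0)), e1 _ t, e2 _ t, rfl⟩
  have seqB : ∀ b t, ∃ S : ShortComplex X.Modules, S.ShortExact ∧
      Nonempty (S.X₁ ≅ CohB1.tensorMod (P b) (T (t + 1))) ∧ S.X₂ = C (b + 1) t ∧
      Nonempty (S.X₃ ≅ CohB1.tensorMod (P (b + 1)) (T t)) := fun b t => by
    obtain ⟨κ, hκ, ⟨e⟩⟩ := exists_seq f hM s I hI b (OmY b) (hOm b) (OmY (b + 1)) (hOm (b + 1))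
    haveI := hκ
    obtain ⟨e'⟩ := e2 (P (b + 1)) t
    exact ⟨_, shortExact_tw (hT (t + 2)) (shortExact_cokernel κ), e1 _ t, rfl,
      ⟨(AmpleVan.tw (T (t + 2))).mapIso e ≪≫ e'⟩⟩
  have iso0 : ∀ t, Nonempty (C 0 t ≅ CohB1.tensorMod (P 0) (T t)) := fun t => by
    obtain ⟨e⟩ := iso_CC_zero f hM s I hI (OmY 0) (hOm 0)
    obtain ⟨e'⟩ := e2 (P 0) t
    exact ⟨(AmpleVan.tw (T (t + 2))).mapIso e ≪≫ e'⟩
  -- vanishing
  have vC : ∀ j t a, j + a + 1 ≤ n → 1 ≤ t → Subsingleton (Coh.HH X (C j t) a) := fun j t a ha ht => by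
    obtain ⟨S, hS, ⟨a₁⟩, ⟨a₂⟩, h₃⟩ := seqA j t
    rw [← h₃]
    exact subsingleton_HH_X₃ hS a (QCoh.subsingleton_HH_of_iso a₂.symm a (hv j a (by omega) t ht))
      (QCoh.subsingleton_HH_of_iso a₁.symm (a + 1) (hv j (a + 1) (by omega) (t + 1) (by omega)))
  have vP : ∀ b t a, b + a + 1 ≤ n → 1 ≤ t → Subsingleton (Coh.HH X (CohB1.tensorMod (P b) (T t)) a) := by
    intro b
    induction b with
    | zero =>
      intro t a ha ht
      obtain ⟨e⟩ := iso0 t
      exact QCoh.subsingleton_HH_of_iso e a (vC 0 t a ha ht)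
    | succ b ih =>
      intro t a ha ht
      obtain ⟨S, hS, ⟨b₁⟩, h₂, ⟨b₃⟩⟩ := seqB b t
      refine QCoh.subsingleton_HH_of_iso b₃ a (subsingleton_HH_X₃ hS a (h₂ ▸ vC (b + 1) t a ha ht) ?_)
      exact QCoh.subsingleton_HH_of_iso b₁.symm (a + 1) (ih (t + 1) (a + 1) (by omega) (by omega))
  have h0 : ∀ {G : X.Modules} {a : ℕ}, Subsingleton (Coh.HH X G a) → Growth22.h k G a = 0 :=
    fun _ => Module.finrank_zero_of_subsingleton
  -- forms of the ambient scheme against the twisted forms on the divisor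
  have stepA : (p + q + 1 ≤ n → Growth22.h k E q = Growth22.h k (C p 0) q) ∧
      (p + q ≤ n → Growth22.h k E q ≤ Growth22.h k (C p 0) q) := by
    obtain ⟨S, hS, ⟨a₁⟩, ⟨a₂⟩, h₃⟩ := seqA p 0
    obtain ⟨u⟩ := e0 (OmX f p)
    obtain ⟨w⟩ := iso_of_isExtPow hE (ExtSheaf.isExtPow_mod (isQCoh_omega f) p)
    have c₁ : Coh.IsCoh S.X₁ := (KZ.isClosedUnderIsomorphisms_isCoh (X := X)).of_iso a₁.symm
      (DevK.isCoh_tensor_inv (hT 1) (isCoh_OmX f p))
    have c₂ : Coh.IsCoh S.X₂ := (KZ.isClosedUnderIsomorphisms_isCoh (X := X)).of_iso (a₂ ≪≫ u).symm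
      (isCoh_OmX f p)
    have c₃ : Coh.IsCoh S.X₃ := h₃ ▸ hCc p 0
    have eE : Growth22.h k E q = Growth22.h k S.X₂ q := Growth22.h_congr k (w ≪≫ (a₂ ≪≫ u).symm) q
    have z : ∀ a, p + a ≤ n → Growth22.h k S.X₁ a = 0 := fun a ha =>
      h0 (QCoh.subsingleton_HH_of_iso a₁.symm a (hv p a ha 1 le_rfl))
    have l2 := Growth22.h_X₂_le k hS c₁ c₂ c₃ q
    have l3 := Growth22.h_X₃_le k hS c₁ c₂ c₃ q
    rw [h₃] at l2 l3
    refine ⟨fun hpq => ?_, fun hpq => ?_⟩
    · have := z q (by omega); have := z (q + 1) (by omega); omega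
    · have := z q hpq; omega
  -- twisted forms on the divisor against forms of the divisor
  obtain ⟨wF⟩ := iso_of_isExtPow hF (hOm p)
  rw [Growth22.h_congr k ((Coh.push I.subschemeι).mapIso wF) q]
  obtain ⟨v⟩ := e0 (P p)
  rcases p with _ | b
  · obtain ⟨e⟩ := iso0 0
    have eC : Growth22.h k (C 0 0) q = Growth22.h k (P 0) q := Growth22.h_congr k (e ≪≫ v) q
    exact ⟨fun hpq => (stepA.1 hpq).trans eC, fun hpq => (stepA.2 hpq).trans eC.le⟩
  · obtain ⟨S, hS, ⟨b₁⟩, h₂, ⟨b₃⟩⟩ := seqB b 0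
    have c₁ : Coh.IsCoh S.X₁ := (KZ.isClosedUnderIsomorphisms_isCoh (X := X)).of_iso b₁.symm
      (DevK.isCoh_tensor_inv (hT 1) (hPc b))
    have c₂ : Coh.IsCoh S.X₂ := h₂ ▸ hCc (b + 1) 0
    have c₃ : Coh.IsCoh S.X₃ := (KZ.isClosedUnderIsomorphisms_isCoh (X := X)).of_iso (b₃ ≪≫ v).symm (hPc (b + 1))
    have eF : Growth22.h k S.X₃ q = Growth22.h k (P (b + 1)) q := Growth22.h_congr k (b₃ ≪≫ v) q
    have z : ∀ a, b + a + 1 ≤ n → Growth22.h k S.X₁ a = 0 := fun a ha =>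
      h0 (QCoh.subsingleton_HH_of_iso b₁.symm a (vP b 1 a ha le_rfl))
    have l2 := Growth22.h_X₂_le k hS c₁ c₂ c₃ q
    have l3 := Growth22.h_X₃_le k hS c₁ c₂ c₃ q
    rw [h₂] at l2 l3
    rw [show Growth22.h k ((Coh.push I.subschemeι).obj (OmY (b + 1))) q = Growth22.h k S.X₃ q from eF.symm]
    refine ⟨fun hpq => ?_, fun hpq => ?_⟩
    · have := stepA.1 hpq; have := z q (by omega); have := z (q + 1) (by omega); omega
    · have := stepA.2 hpq; have := z q (by omega); omega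

end Groth.Agent.HodgeLef45
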