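import Groth.Agent.DRHyp.HypBasic
import Groth.Prelude.Def_ExtPow2

/-!
# Uniqueness of affine-local exterior powers
-/

set_option autoImplicit false
set_option linter.style.haveILetI false
set_option backward.isDefEq.respectTransparency false
set_option backward.isDefEq.respectTransparency.types false

universe u

open CategoryTheory CategoryTheory.Limits AlgebraicGeometry Opposite TopologicalSpace exteriorPower
open Groth.Agent.LogModGeo (rs rf rs_rs rf_rf rs_refl rf_refl rs_smul app_rs)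

noncomputable section

namespace Groth.Agent.HodgeLef45

open Groth.Agent.DRHyp

variable {X : Scheme.{u}}

theorem isBase_affine : Hyp.IsBase (X := X) IsAffineOpen := fun U x hx => by
  obtain ⟨V, hxV, hV⟩ := LogModGeo.exists_affine_nhd hx
  exact ⟨V.1, V.2, hV, hxV⟩

theorem aux {E L L' : X.Modules} {p : ℕ}
    (φ : ∀ U : X.affineOpens, Γ(L, U.1) ≃ₗ[Γ(X, U.1)] ExtSheaf.T E p U.1)
    (hφ : ∀ (U V : X.affineOpens) (h : V.1 ≤ U.1) (e : Fin p → Γ(E, U.1)),
      rs L h ((φ U).symm (ιMulti _ p e)) = (φ V).symm (ιMulti _ p fun i => rs E h (e i)))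
    (φ' : ∀ U : X.affineOpens, Γ(L', U.1) ≃ₗ[Γ(X, U.1)] ExtSheaf.T E p U.1)
    (hφ' : ∀ (U V : X.affineOpens) (h : V.1 ≤ U.1) (e : Fin p → Γ(E, U.1)),
      rs L' h ((φ' U).symm (ιMulti _ p e)) = (φ' V).symm (ιMulti _ p fun i => rs E h (e i)))
    (U V : X.affineOpens) (h : V.1 ≤ U.1) (x : Γ(L, U.1)) :
    rs L' h ((φ' U).symm (φ U x)) = (φ' V).symm (φ V (rs L h x)) := by
  obtain ⟨z, rfl⟩ := (φ U).symm.surjective x
  rw [LinearEquiv.apply_symm_apply]
  induction z using Wedge.induct with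
  | h0 => simp only [map_zero]
  | hadd x y hx hy => simp only [map_add, hx, hy]
  | hgen a v =>
    simp only [LinearEquiv.map_smul, rs_smul, hφ' U V h v, hφ U V h v, LinearEquiv.apply_symm_apply]

/-- The comparison of two exterior powers of the same module. -/
theorem exists_hom_extPow {E L L' : X.Modules} {p : ℕ}
    (φ : ∀ U : X.affineOpens, Γ(L, U.1) ≃ₗ[Γ(X, U.1)] ExtSheaf.T E p U.1)
    (hφ : ∀ (U V : X.affineOpens) (h : V.1 ≤ U.1) (e : Fin p → Γ(E, U.1)),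
      rs L h ((φ U).symm (ιMulti _ p e)) = (φ V).symm (ιMulti _ p fun i => rs E h (e i)))
    (φ' : ∀ U : X.affineOpens, Γ(L', U.1) ≃ₗ[Γ(X, U.1)] ExtSheaf.T E p U.1)
    (hφ' : ∀ (U V : X.affineOpens) (h : V.1 ≤ U.1) (e : Fin p → Γ(E, U.1)),
      rs L' h ((φ' U).symm (ιMulti _ p e)) = (φ' V).symm (ιMulti _ p fun i => rs E h (e i))) :
    ∃ ψ : L ⟶ L', ∀ (U : X.Opens) (hU : IsAffineOpen U) (x : Γ(L, U)),
      ψ.app U x = (φ' ⟨U, hU⟩).symm (φ ⟨U, hU⟩ x) := by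
  refine Hyp.exists_hom_of_base (M := L) (N := L') (isBase_affine (X := X))
    (fun V hV => (φ' ⟨V, hV⟩).symm.toLinearMap.comp (φ ⟨V, hV⟩).toLinearMap) ?_
  intro V W hV hW h x
  exact aux φ hφ φ' hφ' ⟨V, hV⟩ ⟨W, hW⟩ h x

/-- Two exterior powers of the same module are isomorphic. -/
theorem iso_of_isExtPow {E L L' : X.Modules} {p : ℕ} (hL : ExtPow.IsExtPow p E L)
    (hL' : ExtPow.IsExtPow p E L') : Nonempty (L ≅ L') := by
  obtain ⟨φ, hφ⟩ := hL
  obtain ⟨φ', hφ'⟩ := hL'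
  obtain ⟨ψ, hψ⟩ := exists_hom_extPow φ hφ φ' hφ'
  obtain ⟨ψ', hψ'⟩ := exists_hom_extPow φ' hφ' φ hφ
  refine ⟨⟨ψ, ψ', Hyp.hom_ext_of_base isBase_affine fun V hV x => ?_,
    Hyp.hom_ext_of_base isBase_affine fun V hV x => ?_⟩⟩
  · show ψ'.app V (ψ.app V x) = x
    rw [hψ V hV, hψ' V hV, LinearEquiv.apply_symm_apply, LinearEquiv.symm_apply_apply]
  · show ψ.app V (ψ'.app V x) = x
    rw [hψ' V hV, hψ V hV, LinearEquiv.apply_symm_apply, LinearEquiv.symm_apply_apply]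

end Groth.Agent.HodgeLef45
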