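import Groth.Agent.DRHyp.HypVanish
import Groth.Agent.QCoh.LocFree
import Groth.Agent.SmoothDim.Basic
import Groth.Agent.VarDim.Top
import Mathlib.RingTheory.Smooth.StandardSmoothCotangent

/-!
# Forms of a smooth variety are locally free; the dimension of a smooth variety
-/

set_option autoImplicit false
set_option linter.style.haveILetI false
set_option backward.isDefEq.respectTransparency false
set_option backward.isDefEq.respectTransparency.types false

universe u

open CategoryTheory CategoryTheory.Limits AlgebraicGeometry Opposite TopologicalSpace exteriorPower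
open Groth.Agent.DRHyp Groth.Agent.DRHyp.Hyp

noncomputable section

namespace Groth.Agent.HodgeLef45

variable {k : Type u} [Field k] {X : Scheme.{u}}

/-- The sheaves of forms of a smooth scheme are finite locally free. -/
theorem isFinLocFree_OmX (f : X ⟶ Spec (CommRingCat.of k)) [QuasiSeparated f] [Smooth f] (j : ℕ) :
    FlatMod.IsFinLocFree (OmX f j) := fun x => by
  obtain ⟨U, hU, V, hV, hxV, e, hstd⟩ := Smooth.exists_isStandardSmooth f x
  obtain rfl : U = ⊤ := top_le_iff.1 fun y _ => by
    rw [Subsingleton.elim y (f x)]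
    exact e hxV
  let _ := kAlg f V
  have : Algebra.IsStandardSmooth k Γ(X, V) := by
    have h1 : RingHom.IsStandardSmooth (constHom f V) :=
      RingHom.isStandardSmooth_respectsIso.2 _
        (Scheme.ΓSpecIso (CommRingCat.of k)).symm.commRingCatIsoToRingEquiv hstd
    exact h1.toAlgebra
  haveI : Nonempty V := ⟨⟨x, hxV⟩⟩
  haveI : Nontrivial Γ(X, V) := (X.presheaf.germ V x hxV).hom.domain_nontrivial
  let l : Γ(OmX f j, V) ≃ₗ[Γ(X, V)] ↥(⋀[Γ(X, V)]^j (Ω[Γ(X, V)⁄k])) :=
    (ev (isQCoh_omega f) j hV).trans (extMapEquiv j (omegaEquiv f hV)).symm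
  let b := Module.finBasis Γ(X, V) ↥(⋀[Γ(X, V)]^j (Ω[Γ(X, V)⁄k]))
  exact ⟨V, _, hxV, QCoh.exists_free_restrict (isQCoh_OmX f j) hV
    (l.trans (b.repr.trans (Finsupp.domLCongr Equiv.ulift.symm)))⟩

/-- An integral scheme smooth of relative dimension `n` over a field has dimension `n`. -/
theorem dim_eq (f : X ⟶ Spec (CommRingCat.of k)) (n : ℕ) [SmoothOfRelativeDimension n f] [IsIntegral X] :
    topologicalKrullDim X = n := by
  haveI : Smooth f := SmoothOfRelativeDimension.smooth n f
  obtain ⟨U, hU, V, hV, hxV, e, hstd⟩ :=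
    SmoothOfRelativeDimension.exists_isStandardSmoothOfRelativeDimension (n := n) (f := f) (genericPoint X)
  obtain rfl : U = ⊤ := top_le_iff.1 fun y _ => by
    rw [Subsingleton.elim y (f (genericPoint X))]
    exact e hxV
  let φ : k →+* Γ(X, V) := (f.appLE ⊤ V e).hom.comp (Scheme.ΓSpecIso (CommRingCat.of k)).inv.hom
  letI := φ.toAlgebra
  have hφ : RingHom.IsStandardSmoothOfRelativeDimension n φ :=
    RingHom.isStandardSmoothOfRelativeDimension_respectsIso.right (f.appLE ⊤ V e).hom
      (Scheme.ΓSpecIso (CommRingCat.of k)).symm.commRingCatIsoToRingEquiv hstd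
  haveI : Algebra.IsStandardSmoothOfRelativeDimension n k Γ(X, V) := hφ
  haveI : Nonempty V := ⟨⟨_, hxV⟩⟩
  rw [← SmoothDim.ringKrullDim_eq k Γ(X, V) n, ← PrimeSpectrum.topologicalKrullDim_eq_ringKrullDim,
    VarDim.topologicalKrullDim_eq_deg_genericPoint f]
  refine Eq.trans ?_ (IsHomeomorph.topologicalKrullDim_eq _ hV.isoSpec.hom.homeomorph.isHomeomorph)
  show _ = topologicalKrullDim (V : Set X)
  rw [VarDim.topologicalKrullDim_opens_eq_iSup_deg f V]
  refine le_antisymm (le_iSup_of_le ⟨genericPoint X, hxV⟩ le_rfl) (iSup_le fun z => ?_)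
  exact_mod_cast VarDim.deg_le_of_specializes f (genericPoint_specializes _)

end Groth.Agent.HodgeLef45
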