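import Groth.Agent.DRHyp.HypPres
import Groth.Agent.InvX.GenLocusPull
import Groth.Agent.OmegaLib.IdealMod
import Groth.Agent.H23.PicMul
import Groth.Prelude.Def_ClSub2

/-!
# The section defining a divisor with invertible ideal
-/

set_option autoImplicit false
set_option linter.style.haveILetI false
set_option backward.isDefEq.respectTransparency false
set_option backward.isDefEq.respectTransparency.types false

universe u

open CategoryTheory CategoryTheory.Limits AlgebraicGeometry Opposite TopologicalSpace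
open Groth.Agent.DRHyp

noncomputable section

namespace Groth.Agent.HodgeLef45

open Groth.Agent

variable {X : Scheme.{u}}

/-- A closed subscheme with invertible ideal is the zero scheme of a regular section of the inverse
of its ideal. -/
theorem exists_section {A : X.Modules} (hA : PicF.IsInvertible A) (I : X.IdealSheafData)
    (hI : PicF.IsInvertible (ClSub.idealMod I))
    (hinv : Nonempty (CohB1.tensorMod A (ClSub.idealMod I) ≅ Coh.structureModule X)) :
    ∃ s : Coh.structureModule X ⟶ A, Mono s ∧ PicF2.zeroScheme A s = I := by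
  obtain ⟨φ⟩ := hinv
  let s : Coh.structureModule X ⟶ A :=
    φ.inv ≫ KoszTw.tensorMap (𝟙 A) (ClSub.idealModι I) ≫ (SecTwist.unitorR A).hom
  let P : X.Opens → Prop := fun V => IsAffineOpen V ∧ ∃ (e : Γ(A, V)) (h : Γ(ClSub.idealMod I, V)),
    InvX.IsFrame e ∧ InvX.IsFrame h
  have hP : Hyp.IsBase P := fun U x hx => by
    obtain ⟨W, hxW, e, h, he, hh⟩ := InvX.exists_frame₂ hA hI x
    obtain ⟨V, hxV, hV⟩ := LogModGeo.exists_affine_nhd (show x ∈ U ⊓ W from ⟨hx, hxW⟩)
    exact ⟨V.1, ⟨V.2, _, _, he.res (hV.trans inf_le_right), hh.res (hV.trans inf_le_right)⟩,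
      hV.trans inf_le_left, hxV⟩
  have key : ∀ {V : X.Opens} (hV : IsAffineOpen V) {e : Γ(A, V)} {h : Γ(ClSub.idealMod I, V)},
      InvX.IsFrame e → InvX.IsFrame h → ∃ u : Γ(X, V), IsUnit u ∧
        ZeroSchX.sv s V = (u * OmegaSh.idealSect I V h) • e := fun {V} hV {e h} he hh => by
    have hth := InvX.isFrame_tmul he hh
    have h1 := InvX.IsFrame.map_iso φ.symm (InvX.isFrame_one V)
    obtain ⟨u, hu⟩ := hth.exists_coord le_rfl
      (φ.inv.app V (show Γ(Coh.structureModule X, V) from (1 : Γ(X, V))))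
    obtain ⟨v, hv⟩ := h1.exists_coord le_rfl (InvX.tmul e h)
    rw [AModX.res_self] at hu hv
    have huv : u * v = 1 := hth.coord_unique le_rfl (by
      rw [AModX.res_self, one_smul, mul_comm, mul_smul, ← hu]
      exact hv.symm)
    refine ⟨u, IsUnit.of_mul_eq_one _ huv, ?_⟩
    show (SecTwist.unitorR A).hom.app V ((KoszTw.tensorMap (𝟙 A) (ClSub.idealModι I)).app V
      (φ.inv.app V (show Γ(Coh.structureModule X, V) from (1 : Γ(X, V))))) = _
    rw [hu, Scheme.Modules.Hom.app_smul, Scheme.Modules.Hom.app_smul, mul_smul]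
    refine congrArg (u • ·) ?_
    refine (congrArg ((SecTwist.unitorR A).hom.app V) (KoszTw.tensorMap_tmul _ _ _ _ _)).trans ?_
    exact SecTwist.unitorR_tmul A V e (OmegaSh.idealSect I V h)
  have hspan : ∀ {V : X.Opens} (hV : IsAffineOpen V) {h : Γ(ClSub.idealMod I, V)}, InvX.IsFrame h →
      I.ideal ⟨V, hV⟩ = Ideal.span {OmegaSh.idealSect I V h} := fun {V} hV {h} hh => by
    refine le_antisymm (fun a ha => ?_)
      ((Ideal.span_singleton_le_iff_mem _).2 (OmegaLib.idealSect_mem I ⟨V, hV⟩ h))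
    obtain ⟨m, rfl⟩ := OmegaLib.exists_of_mem I ⟨V, hV⟩ a ha
    obtain ⟨r, rfl⟩ := hh.exists_coord le_rfl m
    rw [OmegaLib.idealSect_smul, AModX.res_self]
    exact Ideal.mul_mem_left _ _ (Ideal.mem_span_singleton_self _)
  refine ⟨s, Hyp.mono_of_base hP s fun V hV => ?_, ?_⟩
  · obtain ⟨hVa, e, h, he, hh⟩ := hV
    obtain ⟨u, hu, hs⟩ := key hVa he hh
    refine (injective_iff_map_eq_zero (s.app V).hom).2 fun a ha => ?_
    have h0 : s.app V ((show Γ(X, V) from a) • (show Γ(Coh.structureModule X, V) from (1 : Γ(X, V)))) =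
        (show Γ(X, V) from a) • ZeroSchX.sv s V := Scheme.Modules.Hom.app_smul s _ _
    rw [show (show Γ(X, V) from a) • (show Γ(Coh.structureModule X, V) from (1 : Γ(X, V))) = a from
      mul_one (show Γ(X, V) from a), ha, hs, smul_smul] at h0
    have h1 : (show Γ(X, V) from a) * (u * OmegaSh.idealSect I V h) = 0 :=
      he.coord_unique le_rfl (by rw [AModX.res_self, zero_smul]; exact h0.symm)
    rw [mul_left_comm, hu.mul_right_eq_zero, ← OmegaLib.idealSect_smul] at h1
    have h2 : (show Γ(X, V) from a) • h = 0 :=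
      OmegaLib.idealSect_injective I V (h1.trans (map_zero _).symm)
    exact hh.coord_unique (r := (show Γ(X, V) from a)) (r' := 0) le_rfl (by rw [AModX.res_self, zero_smul]; exact h2)
  · have hcov : ⨆ U : {V : X.Opens // P V}, (⟨U.1, U.2.1⟩ : X.affineOpens).1 = ⊤ :=
      top_unique fun x _ => by
        obtain ⟨V, hV, -, hxV⟩ := hP ⊤ x trivial
        exact Opens.mem_iSup.2 ⟨⟨V, hV⟩, hxV⟩
    refine Scheme.IdealSheafData.ext_of_iSup_eq_top _ hcov fun U => ?_
    obtain ⟨hVa, e, h, he, hh⟩ := U.2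
    obtain ⟨u, hu, hs⟩ := key hVa he hh
    rw [ZeroSchX.ideal_zeroScheme hA, ZeroSchX.zeroIdealOn_eq_span s he hs, hspan hVa hh]
    exact Ideal.span_singleton_mul_left_unit hu _

end Groth.Agent.HodgeLef45
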