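import Groth.Agent.HodgeLef45.Lef
import Groth.Agent.HodgeLef45.Section
import Groth.Agent.PnCoh.PushNat

/-!
# Hodge numbers of a smooth divisor
-/

set_option autoImplicit false
set_option linter.style.haveILetI false
set_option linter.unusedSectionVars false
set_option backward.isDefEq.respectTransparency false
set_option backward.isDefEq.respectTransparency.types false

universe u

open CategoryTheory CategoryTheory.Limits AlgebraicGeometry Opposite TopologicalSpace
open Groth.Agent.DRHyp Groth.Agent.DRHyp.Hyp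
open scoped Groth.Agent.H23.PicMul

noncomputable section

namespace Groth.Agent.HodgeLef45

variable (k : Type u) [Field k] {X : Scheme.{u}} [X.Over (Spec (CommRingCat.of k))]
  [IsProper (X ↘ Spec (CommRingCat.of k))] [Smooth (X ↘ Spec (CommRingCat.of k))]

/-- Vanishing of the negatively twisted forms gives equality of Hodge numbers with a smooth divisor. -/
theorem finrank_eq_of_divisor (n : ℕ) {A M : X.Modules} (hA : PicF.IsInvertible A)
    (hM : ClSub.IsInverseOf M A)
    (hv : ∀ j q, j + q ≤ n → ∀ t, 1 ≤ t → ∀ E : X.Modules,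
      ExtPow.IsExtPow j (Omega.sheaf (X ↘ Spec (CommRingCat.of k))) E →
        Subsingleton (Coh.HH X (CohB1.tensorMod E (CohB1.tensorPow M t)) q))
    (I : X.IdealSheafData) (hI : Nonempty (ClSub.idealMod I ≅ M))
    [I.subscheme.Over (Spec (CommRingCat.of k))]
    (hover : I.subscheme ↘ Spec (CommRingCat.of k) = I.subschemeι ≫ X ↘ Spec (CommRingCat.of k))
    [Smooth (I.subscheme ↘ Spec (CommRingCat.of k))]
    (p q : ℕ) (hpq : p + q + 1 ≤ n)
    (F : I.subscheme.Modules) (hF : ExtPow.IsExtPow p (Omega.sheaf (I.subscheme ↘ Spec (CommRingCat.of k))) F)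
    (E : X.Modules) (hE : ExtPow.IsExtPow p (Omega.sheaf (X ↘ Spec (CommRingCat.of k))) E) :
    Module.finrank k (Coh.HH I.subscheme F q) = Module.finrank k (Coh.HH X E q) := by
  obtain ⟨i⟩ := hI
  have hcl : PicF.cl M * PicF.cl A = 1 := by
    rw [← H23.PicMul.cl_tensor, H23.PicMul.one_def]
    exact H23.PicMul.cl_eq_iff.2 hM
  obtain ⟨D, hD, hD'⟩ := H23.PicInv.exists_inverse hA
  have hMi : PicF.IsInvertible M := H23.PicMul.isInvertible_of_iso (Classical.choice (H23.PicMul.cl_eq_iff.1
    (show PicF.cl D = PicF.cl M by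
      have h2 : PicF.cl A * PicF.cl D = 1 := by
        rw [← H23.PicMul.cl_tensor, H23.PicMul.one_def]; exact H23.PicMul.cl_eq_iff.2 hD'
      calc PicF.cl D = PicF.cl M * PicF.cl A * PicF.cl D := by rw [hcl, one_mul]
        _ = PicF.cl M := by rw [mul_assoc, h2, mul_one]))) hD
  obtain ⟨s, hs, hz⟩ := exists_section hA I (H23.PicMul.isInvertible_of_iso i.symm hMi)
    (H23.PicMul.cl_eq_iff.1 (by
      rw [H23.PicMul.cl_tensor, H23.PicMul.cl_eq_iff.2 ⟨i⟩, mul_comm, hcl, H23.PicMul.one_def]))
  haveI := hs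
  haveI : Smooth (I.subschemeι ≫ (X ↘ Spec (CommRingCat.of k))) := hover ▸ inferInstance
  rw [hover] at hF
  have h := (comparison k hA hMi hcl s I
    (fun {V} hV {e} he => hz ▸ ideal_eq s hA hV he) n
    (fun j a hja t ht => hv j a hja t ht _ (ExtSheaf.isExtPow_mod (isQCoh_omega _) j)) p q E hE F hF).1 hpq
  obtain ⟨e⟩ := PnCoh.exists_linearEquiv_push k I.subschemeι hover.symm
    (isQCoh_of_isExtPow (isQCoh_omega _) p hF) q
  exact e.finrank_eq.trans h.symm

end Groth.Agent.HodgeLef45
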