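import Groth.Agent.DRHyp.HypVanish
import Groth.Agent.HodgeLef45.ExtIso

/-!
# The restriction sequences of forms on a smooth divisor
-/

set_option autoImplicit false
set_option linter.style.haveILetI false
set_option linter.unusedSectionVars false
set_option backward.isDefEq.respectTransparency false
set_option backward.isDefEq.respectTransparency.types false

universe u

open CategoryTheory CategoryTheory.Limits AlgebraicGeometry Opposite TopologicalSpace exteriorPower
open Groth.Agent.LogModGeo (rs rf rs_rs rf_rf rs_refl rf_refl rs_smul app_rs)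
open Groth.Agent.DRHyp Groth.Agent.DRHyp.Hyp

noncomputable section

namespace Groth.Agent.HodgeLef45

attribute [local irreducible] ExtSheaf.mod

/-- A morphism bijective on the members of a basis is an isomorphism. -/
theorem isIso_of_base {X : Scheme.{u}} {A B : X.Modules} {P : X.Opens → Prop} (hP : IsBase P) (φ : A ⟶ B)
    (h : ∀ V, P V → Function.Bijective (φ.app V)) : IsIso φ := by
  let lin : ∀ V : X.Opens, Γ(A, V) →ₗ[Γ(X, V)] Γ(B, V) := fun V =>
    { toFun := φ.app V
      map_add' := map_add _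
      map_smul' := φ.app_smul }
  let e : ∀ V, P V → Γ(A, V) ≃ₗ[Γ(X, V)] Γ(B, V) := fun V hV => LinearEquiv.ofBijective (lin V) (h V hV)
  obtain ⟨ψ, hψ⟩ := exists_hom_of_base (M := B) (N := A) hP (fun V hV => (e V hV).symm.toLinearMap)
    fun V W hV hW hWV y => by
      obtain ⟨x, rfl⟩ := (e V hV).surjective y
      refine (h W hW).1 ?_
      show φ.app W (rs A hWV ((e V hV).symm (e V hV x))) = e W hW ((e W hW).symm _)
      rw [LinearEquiv.symm_apply_apply, LinearEquiv.apply_symm_apply]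
      exact app_rs φ hWV x
  refine ⟨ψ, hom_ext_of_base hP fun V hV x => ?_, hom_ext_of_base hP fun V hV y => ?_⟩
  · show ψ.app V (φ.app V x) = x
    rw [hψ V hV]
    exact (e V hV).symm_apply_apply x
  · show φ.app V (ψ.app V y) = y
    rw [hψ V hV]
    exact (e V hV).apply_symm_apply y

variable {k : Type u} [Field k] {X : Scheme.{u}} (f : X ⟶ Spec (CommRingCat.of k)) [QuasiSeparated f]
  {M : X.Modules} (hM : PicF.IsInvertible M) (s : Coh.structureModule X ⟶ M)
  (I : X.IdealSheafData) [QuasiSeparated (I.subschemeι ≫ f)]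
  (hI : ∀ {V : X.Opens} (hV : IsAffineOpen V) {e : Γ(M, V)} (he : InvX.IsFrame e),
    I.ideal ⟨V, hV⟩ = Ideal.span {coef s he})

/-- Forms on the subscheme, twisted twice. -/
def K1 (M : X.Modules) (OmY : I.subscheme.Modules) : X.Modules :=
  CohB1.tensorMod ((Coh.push I.subschemeι).obj OmY) (PT M 1)

section Rho

variable {j : ℕ} (OmY : I.subscheme.Modules)
  (φY : ∀ U : I.subscheme.affineOpens,
    Γ(OmY, U.1) ≃ₗ[Γ(I.subscheme, U.1)] ExtSheaf.T (Omega.sheaf (I.subschemeι ≫ f)) j U.1)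
  (hφY : ∀ (U V : I.subscheme.affineOpens) (h : V.1 ≤ U.1)
    (e : Fin j → Γ(Omega.sheaf (I.subschemeι ≫ f), U.1)),
    rs OmY h ((φY U).symm (ιMulti _ j e)) =
      (φY V).symm (ιMulti _ j fun i => rs (Omega.sheaf (I.subschemeι ≫ f)) h (e i)))

include hI in
theorem restrLin_coef {V : X.Opens} (hV : IsAffineOpen V) {e : Γ(M, V)} (he : InvX.IsFrame e)
    (x : TO f j V) : restrLin f I OmY φY hV (coef s he • x) = 0 := by
  refine (restr_smul f I OmY φY hV (coef s he) x).trans ?_
  refine (QCoh.pushforward_smul (M := OmY) I.subschemeι V _ _).trans ?_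
  rw [ideal_app_eq_zero I hV (hI hV he)]
  exact (zero_smul Γ(I.subscheme, I.subschemeι ⁻¹ᵁ V)
    (show Γ(OmY, I.subschemeι ⁻¹ᵁ V) from restr f I OmY φY hV x) :)

include hφY in
/-- Restriction of forms, as a morphism of modules. -/
theorem exists_rho : ∃ ρ : OmX f j ⟶ (Coh.push I.subschemeι).obj OmY,
    ∀ (V : X.Opens) (hV : IsAffineOpen V) (z : TO f j V),
      ρ.app V ((ev (isQCoh_omega f) j hV).symm z) = restrLin f I OmY φY hV z := by
  obtain ⟨ρ, hρ⟩ := exists_hom_of_base (M := OmX f j) (N := (Coh.push I.subschemeι).obj OmY)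
    (isBase_affine (X := X))
    (fun V hV => (restrLin f I OmY φY hV).comp (ev (isQCoh_omega f) j hV).toLinearMap)
    fun V W hV hW h x => by
      obtain ⟨z, rfl⟩ := (ev (isQCoh_omega f) j hV).symm.surjective x
      show rs _ h (restrLin f I OmY φY hV ((ev (isQCoh_omega f) j hV) ((ev (isQCoh_omega f) j hV).symm z))) =
        restrLin f I OmY φY hW (ev (isQCoh_omega f) j hW (rs _ h ((ev (isQCoh_omega f) j hV).symm z)))
      rw [LinearEquiv.apply_symm_apply, ev_symm_res (isQCoh_omega f) hV hW h z, LinearEquiv.apply_symm_apply]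
      exact restr_res f I OmY φY hφY hV hW h z
  exact ⟨ρ, fun V hV z => (hρ V hV _).trans
    (congrArg (restrLin f I OmY φY hV) ((ev (isQCoh_omega f) j hV).apply_symm_apply z))⟩

include hM hI hφY in
/-- Restriction of twisted forms on the zero scheme to forms of the subscheme. -/
theorem exists_rho' : ∃ ρ' : CC f s j 0 ⟶ K1 I M OmY,
    ∀ (V : X.Opens) (hV : IsAffineOpen V) (e : Γ(M, V)) (he : InvX.IsFrame e) (x : TO f j V),
      ρ'.app V ((presCC f s hM j 0).q hV he x) = InvX.tmul (restrLin f I OmY φY hV x) (fr e 1) := by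
  obtain ⟨ρ, hρ⟩ := exists_rho f I OmY φY hφY
  have hq : ∀ (V : X.Opens) (hV : IsAffineOpen V) (e : Γ(M, V)) (x : TO f j V),
      (KoszTw.tensorMap ρ (𝟙 (PT M 1))).app V (qN f j 1 hV e x) =
        InvX.tmul (restrLin f I OmY φY hV x) (fr e 1) := fun V hV e x => by
    refine (KoszTw.tensorMap_tmul _ _ _ _ _).trans ?_
    rw [hρ V hV x]
    rfl
  have h0 : upN f s j 0 ≫ KoszTw.tensorMap ρ (𝟙 (PT M 1)) = 0 :=
    hom_ext_of_base (isBase_small hM) fun V hV z => by
      obtain ⟨hVa, e, he⟩ := id hV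
      obtain ⟨x, rfl⟩ := (qN_bijective f hM j 0 hVa he).2 z
      show (KoszTw.tensorMap ρ (𝟙 (PT M 1))).app V ((upN f s j 0).app V (qN f j 0 hVa e x)) = 0
      rw [upN_qN f s j 0 hVa he x, hq, restrLin_coef f s I hI OmY φY hVa he x]
      exact tmul_zero_left _
  refine ⟨cokernel.desc _ _ h0, fun V hV e he x => ?_⟩
  exact (congr(($(cokernel.π_desc (upN f s j 0) _ h0)).app V (qN f j 1 hV e x))).trans (hq V hV e x)

include hφY in
theorem tmul_fr_bijective {V : X.Opens} (hV : IsAffineOpen V) {e : Γ(M, V)} (he : InvX.IsFrame e)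
    (hM : PicF.IsInvertible M) :
    Function.Bijective (fun y : Γ((Coh.push I.subschemeι).obj OmY, V) => InvX.tmul y (fr e 1)) :=
  bijective_tmul_frame (isQCoh_push f I OmY φY hφY) (isQCoh_PT hM 1) hV (isFrame_fr he 1)

end Rho

variable [Smooth f] [Smooth (I.subschemeι ≫ f)] [Mono s]

include hI in
theorem exists_of_dwedge_eq' {V : X.Opens} (hV : IsAffineOpen V) {e : Γ(M, V)} (he : InvX.IsFrame e) {j : ℕ}
    {x : TO f (j + 1) V} {z : TO f (j + 2) V} (h : dwedge f s he (j + 1) x = coef s he • z) :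
    ∃ y w, x = dwedge f s he j y + coef s he • w := by
  obtain ⟨φ, c, hφ⟩ := exists_dual_d f I ⟨V, hV⟩ (hI hV he) (coef_regular s he)
  exact Wedge.exists_of_wedge_eq hφ h

include hI in
theorem exists_of_dwedge_zero {V : X.Opens} (hV : IsAffineOpen V) {e : Γ(M, V)} (he : InvX.IsFrame e)
    {x : TO f 0 V} {z : TO f 1 V} (h : dwedge f s he 0 x = coef s he • z) :
    ∃ w, x = coef s he • w := by
  obtain ⟨φ, c, hφ⟩ := exists_dual_d f I ⟨V, hV⟩ (hI hV he) (coef_regular s he)
  exact Wedge.exists_of_wedge_eq_zero hφ h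

include hM hI in
/-- In degree zero the twisted forms on the zero scheme are the functions of the subscheme. -/
theorem iso_CC_zero (OmY : I.subscheme.Modules)
    (hOm : ExtPow.IsExtPow 0 (Omega.sheaf (I.subschemeι ≫ f)) OmY) :
    Nonempty (CC f s 0 0 ≅ K1 I M OmY) := by
  obtain ⟨φY, hφY⟩ := hOm
  obtain ⟨ρ', hρ'⟩ := exists_rho' f hM s I hI OmY φY hφY
  haveI : IsIso ρ' := by
    refine isIso_of_base (isBase_small hM) ρ' fun V hV => ⟨?_, fun w => ?_⟩
    · obtain ⟨hVa, e, he⟩ := id hV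
      refine (injective_iff_map_eq_zero (ρ'.app V).hom).2 fun y hy => ?_
      obtain ⟨x, rfl⟩ := (presCC f s hM 0 0).surj hVa he y
      have h1 : restrLin f I OmY φY hVa x = 0 :=
        (tmul_fr_bijective f I OmY φY hφY hVa he hM).1
          (((hρ' V hVa e he x).symm.trans hy).trans (tmul_zero_left _).symm)
      obtain ⟨z, hz⟩ := (restr_eq_zero_iff f I OmY φY hVa (hI hVa he) (coef_regular s he) x).1 h1
      obtain ⟨w, rfl⟩ := exists_of_dwedge_zero f s I hI hVa he hz
      exact (presCC f s hM 0 0).coef_smul hVa he w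
    · obtain ⟨hVa, e, he⟩ := id hV
      obtain ⟨y, rfl⟩ := (tmul_fr_bijective f I OmY φY hφY hVa he hM).2 w
      obtain ⟨x, rfl⟩ := restrLin_surjective f I OmY φY hVa y
      exact ⟨_, hρ' V hVa e he x⟩
  exact ⟨asIso ρ'⟩

include hM hI in
/-- The restriction sequence in positive degree. -/
theorem exists_seq (b : ℕ) (OmY : I.subscheme.Modules)
    (hOm : ExtPow.IsExtPow b (Omega.sheaf (I.subschemeι ≫ f)) OmY) (OmY' : I.subscheme.Modules)
    (hOm' : ExtPow.IsExtPow (b + 1) (Omega.sheaf (I.subschemeι ≫ f)) OmY') :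
    ∃ κ : K0 I OmY M ⟶ CC f s (b + 1) 0, Mono κ ∧ Nonempty (cokernel κ ≅ K1 I M OmY') := by
  obtain ⟨φY, hφY⟩ := hOm
  obtain ⟨φY', hφY'⟩ := hOm'
  obtain ⟨ρ', hρ'⟩ := exists_rho' f hM s I hI OmY' φY' hφY'
  let P := presK0 f s I OmY φY hφY hM hI
  obtain ⟨κ, hκ⟩ := exists_dHom hM P (presCC f s hM (b + 1) 0) rfl fun {V} hV {e} he x hx => by
    obtain ⟨z, hz⟩ := (presK0_eq_zero_iff f s I OmY φY hφY hM hI hV he x).1 hx
    rw [hz, (presCC f s hM (b + 1) 0).coef_smul]
  have hm : Mono κ := mono_of_base (isBase_small hM) κ fun V hV => by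
    obtain ⟨hVa, e, he⟩ := id hV
    refine (injective_iff_map_eq_zero (κ.app V).hom).2 fun y hy => ?_
    obtain ⟨x, rfl⟩ := P.surj hVa he y
    rw [hκ V hVa e he] at hy
    exact (presK0_eq_zero_iff f s I OmY φY hφY hM hI hVa he x).2
      ((presCC_eq_zero_iff f hM s _ _ hVa he _).1 hy)
  have hκρ : κ ≫ ρ' = 0 := hom_ext_of_base (isBase_small hM) fun V hV y => by
    obtain ⟨hVa, e, he⟩ := id hV
    obtain ⟨x, rfl⟩ := P.surj hVa he y
    show ρ'.app V (κ.app V (P.q hVa he x)) = 0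
    rw [hκ V hVa e he, hρ' V hVa e he]
    refine (congrArg (fun y => InvX.tmul y (fr e 1)) ?_).trans (tmul_zero_left _)
    exact (restr_eq_zero_iff f I OmY' φY' hVa (hI hVa he) (coef_regular s he) _).2
      ⟨0, by rw [smul_zero]; exact Wedge.wedge_wedge_self _ _⟩
  haveI : IsIso (cokernel.desc κ ρ' hκρ) := by
    have hK := isQCoh_K0 f I OmY φY hφY hM
    have hC := isQCoh_CC f hM s (b + 1) 0
    have hdesc : ∀ (V : X.Opens) (z : Γ(CC f s (b + 1) 0, V)),
        (cokernel.desc κ ρ' hκρ).app V ((cokernel.π κ).app V z) = ρ'.app V z :=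
      fun V z => congr(($(cokernel.π_desc κ ρ' hκρ)).app V z)
    refine isIso_of_base (isBase_small hM) _ fun V hV => ⟨?_, fun w => ?_⟩
    · obtain ⟨hVa, e, he⟩ := id hV
      refine (injective_iff_map_eq_zero ((cokernel.desc κ ρ' hκρ).app V).hom).2 fun y hy => ?_
      obtain ⟨z, rfl⟩ := (cokernel_sections hK hC κ hVa).1 y
      obtain ⟨x, rfl⟩ := (presCC f s hM (b + 1) 0).surj hVa he z
      rw [hdesc, hρ' V hVa e he] at hy
      have h1 : restrLin f I OmY' φY' hVa x = 0 :=
        (tmul_fr_bijective f I OmY' φY' hφY' hVa he hM).1 (hy.trans (tmul_zero_left _).symm)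
      obtain ⟨z, hz⟩ := (restr_eq_zero_iff f I OmY' φY' hVa (hI hVa he) (coef_regular s he) x).1 h1
      obtain ⟨y, w, rfl⟩ := exists_of_dwedge_eq' f s I hI hVa he hz
      refine ((cokernel_sections hK hC κ hVa).2 _).2 ⟨P.q hVa he y, ?_⟩
      rw [hκ V hVa e he, map_add, (presCC f s hM (b + 1) 0).coef_smul, add_zero]
    · obtain ⟨hVa, e, he⟩ := id hV
      obtain ⟨y, rfl⟩ := (tmul_fr_bijective f I OmY' φY' hφY' hVa he hM).2 w
      obtain ⟨x, rfl⟩ := restrLin_surjective f I OmY' φY' hVa y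
      exact ⟨_, (hdesc V _).trans (hρ' V hVa e he x)⟩
  exact ⟨κ, hm, ⟨asIso (cokernel.desc κ ρ' hκρ)⟩⟩

end Groth.Agent.HodgeLef45
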